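import Mathlib

/-!
# Dimension along a flat map inducing a bijection on maximal ideals with trivial fibres
-/

set_option autoImplicit false

universe u

namespace Groth.Agent.SemiLocDim

variable {A B : Type u} [CommRing A] [CommRing B] [Algebra A B] [IsNoetherianRing A] [IsNoetherianRing B]
  [Module.Flat A B]

/-- A maximal ideal extended from its contraction has the height of its contraction. -/
theorem height_eq_of_map_eq (n : Ideal B) [n.IsMaximal] (m : Ideal A) [m.IsPrime] [n.LiesOver m]
    (h : m.map (algebraMap A B) = n) : n.height = m.height := by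
  haveI : Nontrivial (B ⧸ m.map (algebraMap A B)) :=
    Ideal.Quotient.nontrivial_iff.2 (h ▸ (‹n.IsMaximal›).ne_top)
  have := Ideal.height_eq_height_add_of_liesOver_of_hasGoingDown m n
  rw [← h, Ideal.map_quotient_self, Ideal.height_bot, add_zero] at this
  rw [← h, this]

/-- Flat, every maximal ideal of `B` extended from `A`, every maximal ideal of `A` staying proper. -/
theorem ringKrullDim_eq
    (hB : ∀ n : Ideal B, n.IsMaximal → (n.under A).IsMaximal ∧ (n.under A).map (algebraMap A B) = n)
    (hA : ∀ m : Ideal A, m.IsMaximal → m.map (algebraMap A B) ≠ ⊤) :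
    ringKrullDim B = ringKrullDim A := by
  refine le_antisymm ((ringKrullDim_le_iff_isMaximal_height_le _).2 fun n hn => ?_)
    ((ringKrullDim_le_iff_isMaximal_height_le _).2 fun m hm => ?_)
  · haveI := (hB n hn).1
    haveI : n.LiesOver (n.under A) := ⟨rfl⟩
    rw [height_eq_of_map_eq n (n.under A) (hB n hn).2]
    exact Ideal.height_le_ringKrullDim_of_ne_top (Ideal.IsMaximal.ne_top inferInstance)
  · obtain ⟨n, hn, hle⟩ := Ideal.exists_le_maximal _ (hA m hm)
    have e : n.under A = m := (hm.eq_of_le (hB n hn).1.ne_top (Ideal.map_le_iff_le_comap.1 hle)).symm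
    haveI : n.LiesOver m := ⟨e.symm⟩
    have h2 := (hB n hn).2
    rw [e] at h2
    rw [← height_eq_of_map_eq n m h2]
    exact Ideal.height_le_ringKrullDim_of_ne_top hn.ne_top

end Groth.Agent.SemiLocDim
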